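import Cfsg.Agent.H300.Cls.GenChar

/-!
# Adjoint Adams operations (helper806)

For a generalized character `φ` the class function `y ↦ ∑_{x ^ k = y} φ x` is a generalized character, because its inner
product with `χ` is the inner product of `φ` with `x ↦ χ (x ^ k)`. `GC.adj` : the version for tables.
-/

set_option autoImplicit false

namespace Cfsg.Agent.H806.SB.Adj

open Cfsg Cfsg.Agent.Characters.Brauer Cfsg.Agent.Characters.Core Cfsg.Agent.H300.Cls
open scoped ComplexConjugate

variable {G : Type*} [Group G]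

theorem exists_int_inner [Fintype G] {α β : G → ℂ} (hα : IsGeneralizedCharacter G α)
    (hβ : IsGeneralizedCharacter G β) : ∃ n : ℤ, classInner α β = n := by
  obtain ⟨a, b, ha, hb, rfl⟩ := hα
  obtain ⟨c, d, hc, hd, rfl⟩ := hβ
  obtain ⟨n1, h1⟩ := classInner_isNat ha hc
  obtain ⟨n2, h2⟩ := classInner_isNat ha hd
  obtain ⟨n3, h3⟩ := classInner_isNat hb hc
  obtain ⟨n4, h4⟩ := classInner_isNat hb hd
  refine ⟨(n1 : ℤ) - n2 - (n3 - n4), ?_⟩
  rw [classInner_sub_left, classInner_sub_right, classInner_sub_right, h1, h2, h3, h4]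
  push_cast
  ring

/-- the adjoint Adams operation -/
noncomputable def adj [Fintype G] [DecidableEq G] (k : ℕ) (φ : G → ℂ) (y : G) : ℂ := ∑ x : G, if x ^ k = y then φ x else 0

theorem adj_classFunction [Fintype G] [DecidableEq G] (k : ℕ) {φ : G → ℂ} (hφ : IsClassFunction G φ) :
    IsClassFunction G (adj k φ) := by
  intro g h
  rw [adj, adj]
  symm
  refine Fintype.sum_equiv (MulAut.conj h).toEquiv _ _ fun x => ?_
  have h1 : (MulAut.conj h).toEquiv x = h * x * h⁻¹ := rfl
  rw [h1, conj_pow, hφ]
  simp only [mul_left_inj, mul_right_inj]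

theorem isGeneralizedCharacter_adj [Fintype G] [DecidableEq G] {φ : G → ℂ} (hφ : IsGeneralizedCharacter G φ) (k : ℕ) :
    IsGeneralizedCharacter G (adj k φ) := by
  have hcf : IsClassFunction G φ := by
    obtain ⟨a, b, ha, hb, rfl⟩ := hφ
    intro g h
    rw [Pi.sub_apply, Pi.sub_apply, isCharacter_isClassFunction ha g h, isCharacter_isClassFunction hb g h]
  refine isGeneralizedCharacter_of_int (adj_classFunction k hcf) fun χ hχ => ?_
  obtain ⟨n, hn⟩ := exists_int_inner hφ (Cfsg.Agent.H139.Cusp.isGeneralizedCharacter_pow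
    (isGeneralizedCharacter_of_isCharacter (isIrr_isCharacter hχ)) k)
  refine ⟨n, ?_⟩
  rw [← hn, classInner_def, classInner_def]
  congr 1
  simp only [adj, Finset.sum_mul]
  rw [Finset.sum_comm]
  refine Finset.sum_congr rfl fun x _ => ?_
  simp only [ite_mul, zero_mul]
  rw [Finset.sum_ite_eq Finset.univ (x ^ k) fun y => φ x * conj (χ y)]
  simp

/-- the version for tables -/
theorem GC.adj [Fintype G] {fam : G → ℕ} {N : ℕ} (hf : ∀ g, fam g < N) {k : ℕ} {P : List ℕ}
    (hP : ∀ g, fam (g ^ k) = P.getD (fam g) 0) (s : List ℕ)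
    (hs : ∀ i, (Finset.univ.filter fun g : G => fam g = i).card = s.getD i 0)
    (hG : ∀ y y' : G, fam y = fam y' → ∃ m, (Nat.card G).Coprime m ∧ IsConj (y ^ m) y')
    (hm : ∀ m, (Nat.card G).Coprime m → ∀ g : G, fam (g ^ m) = fam g)
    {v : List ℤ} (hv : GC fam v) (r : List ℤ)
    (h : chkAll N (fun t => decide ((s.getD t 0 : ℤ) * r.getD t 0 =
      ((List.range N).map fun i => if P.getD i 0 = t then (s.getD i 0 : ℤ) * v.getD i 0 else 0).sum)) = true) :
    GC fam r := by
  classical
  rw [chkAll_iff] at h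
  refine GC.of (isGeneralizedCharacter_adj hv k) fun y0 => ?_
  have hcf := adj_classFunction k (φ := tv fam v) (by
    obtain ⟨a, b, ha, hb, hab⟩ := (show IsGeneralizedCharacter G (tv fam v) from hv)
    rw [hab]
    intro g h
    rw [Pi.sub_apply, Pi.sub_apply, isCharacter_isClassFunction ha g h, isCharacter_isClassFunction hb g h])
  -- constant on the families
  have hconst : ∀ y : G, fam y = fam y0 → Adj.adj k (tv fam v) y = Adj.adj k (tv fam v) y0 := by
    intro y hy
    obtain ⟨m, hmc, hmy⟩ := hG y y0 hy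
    obtain ⟨c, hc⟩ := isConj_iff.1 hmy
    rw [← hc, hcf, Adj.adj, Adj.adj]
    refine Fintype.sum_equiv (powCoprime hmc) _ _ fun x => ?_
    have e1 : powCoprime hmc x = x ^ m := rfl
    have e2 : (x ^ m) ^ k = y ^ m ↔ x ^ k = y := by
      rw [← pow_mul, mul_comm, pow_mul]
      exact (powCoprime hmc).injective.eq_iff
    rw [e1, tv, tv, hm m hmc]
    simp only [e2]
  -- total
  have htot : ∑ y ∈ Finset.univ.filter (fun g : G => fam g = fam y0), Adj.adj k (tv fam v) y =
      ((((List.range N).map fun i => if P.getD i 0 = fam y0 then (s.getD i 0 : ℤ) * v.getD i 0 else 0).sum : ℤ) : ℂ) := by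
    have h1 : ∑ y ∈ Finset.univ.filter (fun g : G => fam g = fam y0), Adj.adj k (tv fam v) y =
        ∑ x : G, if P.getD (fam x) 0 = fam y0 then tv fam v x else 0 := by
      simp only [Adj.adj]
      rw [Finset.sum_comm]
      refine Finset.sum_congr rfl fun x _ => ?_
      rw [Finset.sum_ite_eq (Finset.univ.filter (fun g : G => fam g = fam y0)) (x ^ k) fun _ => tv fam v x]
      simp only [Finset.mem_filter, Finset.mem_univ, true_and, hP]
    rw [h1]
    have h2 : ∑ x : G, (if P.getD (fam x) 0 = fam y0 then tv fam v x else 0) =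
        ∑ i ∈ Finset.range N, ∑ x ∈ Finset.univ.filter (fun g : G => fam g = i),
          (if P.getD (fam x) 0 = fam y0 then tv fam v x else 0) := by
      rw [Finset.sum_fiberwise_of_maps_to (g := fam)]
      intro x _
      exact Finset.mem_range.2 (hf x)
    rw [h2]
    have h3 : ∀ i ∈ Finset.range N, ∑ x ∈ Finset.univ.filter (fun g : G => fam g = i),
        (if P.getD (fam x) 0 = fam y0 then tv fam v x else 0) =
        (((if P.getD i 0 = fam y0 then (s.getD i 0 : ℤ) * v.getD i 0 else 0 : ℤ)) : ℂ) := by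
      intro i _
      have h4 : ∀ x ∈ Finset.univ.filter (fun g : G => fam g = i),
          (if P.getD (fam x) 0 = fam y0 then tv fam v x else 0) =
          (((if P.getD i 0 = fam y0 then v.getD i 0 else 0 : ℤ)) : ℂ) := by
        intro x hx
        rw [Finset.mem_filter] at hx
        rw [tv, hx.2]
        split_ifs <;> simp
      rw [Finset.sum_congr rfl h4, Finset.sum_const, hs, nsmul_eq_mul]
      split_ifs <;> simp
    rw [Finset.sum_congr rfl h3, ← Int.cast_sum]
    congr 1
  have h5 : ∑ y ∈ Finset.univ.filter (fun g : G => fam g = fam y0), Adj.adj k (tv fam v) y =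
      (s.getD (fam y0) 0 : ℂ) * Adj.adj k (tv fam v) y0 := by
    rw [Finset.sum_congr rfl fun y hy => hconst y (Finset.mem_filter.1 hy).2, Finset.sum_const, hs, nsmul_eq_mul]
  have h6 := of_decide_eq_true (h _ (hf y0))
  rw [h5, ← h6] at htot
  have h7 : (s.getD (fam y0) 0 : ℂ) ≠ 0 := by
    rw [Nat.cast_ne_zero, ← hs]
    have hy : y0 ∈ Finset.univ.filter (fun g : G => fam g = fam y0) := by simp
    exact (Finset.card_pos.2 ⟨y0, hy⟩).ne'
  rw [Int.cast_mul, Int.cast_natCast] at htot
  have h8 := mul_left_cancel₀ h7 htot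
  rw [tv]
  exact h8.symm

end Cfsg.Agent.H806.SB.Adj
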